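import Mathlib.Init
set_option autoImplicit false
set_option maxRecDepth 100000
set_option linter.all false
namespace H35.TCSuzS
noncomputable def T_a_0 (i : Nat) : Nat := Nat.land (Nat.shiftRight (nat_lit 0xfffffffffffffff0209effffffffffffffffffffffffffffffffffffffffffffffffff008310c3ff0b423ffc5ffffff1740d00001) (Nat.mul (nat_lit 10) (Nat.land i (nat_lit 2047)))) (nat_lit 1023)
noncomputable abbrev T_a : Nat → Nat := T_a_0
noncomputable def T_b_0 (i : Nat) : Nat := Nat.land (Nat.shiftRight (nat_lit 0xffc0e037ffffffffffff01fff01bfffffffffffffffffffffffffff00e7d8a02f0b82809ffffffffffc010841f1906304c0002002) (Nat.mul (nat_lit 10) (Nat.land i (nat_lit 2047)))) (nat_lit 1023)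
noncomputable abbrev T_b : Nat → Nat := T_b_0
noncomputable def T_c_0 (i : Nat) : Nat := Nat.land (Nat.shiftRight (nat_lit 0xffc3dfffff0d408fffffffffffffffffffffffffffc040c7ff0bfff1f3ffffd7fc8802fffff1e7ff004241afff1a4180000e02403) (Nat.mul (nat_lit 10) (Nat.land i (nat_lit 2047)))) (nat_lit 1023)
noncomputable abbrev T_c : Nat → Nat := T_c_0
noncomputable def T_d_0 (i : Nat) : Nat := Nat.land (Nat.shiftRight (nat_lit 0x3bfffffffffffffffffffffffffffffc050c430ffffffffffffc03ffffffffff00829fffffffffffffff1bc6e070000500fffc04) (Nat.mul (nat_lit 10) (Nat.land i (nat_lit 2047)))) (nat_lit 1023)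
noncomputable abbrev T_d : Nat → Nat := T_d_0
noncomputable def T_e_0 (i : Nat) : Nat := Nat.land (Nat.shiftRight (nat_lit 0x12bffffc35ffffffffffffc7dffc310c3ff949ff013fffffff00ffffffffffc02bdbfffffff1e801fffff1c871000190541002805) (Nat.mul (nat_lit 10) (Nat.land i (nat_lit 2047)))) (nat_lit 1023)
noncomputable abbrev T_e : Nat → Nat := T_e_0
noncomputable def T_f_0 (i : Nat) : Nat := Nat.land (Nat.shiftRight (nat_lit 0xfffffffc0a027ffffc07ffc60fffff017ff94404fffffffc03ffffffffff00bffffffffffff00426097ff088000741a0581102c06) (Nat.mul (nat_lit 10) (Nat.land i (nat_lit 2047)))) (nat_lit 1023)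
noncomputable abbrev T_f : Nat → Nat := T_f_0
noncomputable def T_g_0 (i : Nat) : Nat := Nat.land (Nat.shiftRight (nat_lit 0xfffffffffffffffffcddffc06ffc05fffff011fd7fbff00ffffffffffc02ffffffffffffc0132bfffffff000200781b05c1203007) (Nat.mul (nat_lit 10) (Nat.land i (nat_lit 2047)))) (nat_lit 1023)
noncomputable abbrev T_g : Nat → Nat := T_g_0
noncomputable def P_0 (i : Nat) : Nat := Nat.land (Nat.shiftRight (nat_lit 0xe3e1d1a59582807571666156555346454442363534333126252423222016151412110605040302010000) (Nat.mul (nat_lit 8) (Nat.land i (nat_lit 4095)))) (nat_lit 255)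
noncomputable abbrev P : Nat → Nat := P_0
noncomputable def MG_0 (i : Nat) : Nat := Nat.land (Nat.shiftRight (nat_lit 0x6a1525e9434f08c37d46979e7825e88f63ba4357b2b03589615815f3f2dbbd2d97497a54903409013fcaaa9b20a93484a1a434bff) (Nat.mul (nat_lit 10) (Nat.land i (nat_lit 2047)))) (nat_lit 1023)
noncomputable abbrev MG : Nat → Nat := MG_0
noncomputable def RS_0 (i : Nat) : Nat := Nat.land (Nat.shiftRight (nat_lit 0x6100000007100000010014000001006000000100000000141000030000010132000000000101050000014000000010001234000213300020100000000100100050001000000010400000100000002101000030010003000103500031340000010000000011000005312020300100000000104000001010222000122002001022000010200000102000001000000010000000) (Nat.mul (nat_lit 28) (Nat.land i (nat_lit 1023)))) (nat_lit 268435455)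
noncomputable abbrev RS : Nat → Nat := RS_0
noncomputable def MR_0 (i : Nat) : Nat := Nat.land (Nat.shiftRight (nat_lit 0x1c2026311a02941192101d11106316500f0252400ef00ee032d032c034b10c230e120a31065106110641062052a30e0022920a000421503106600250021002400237483d3620220d36100080260000711000000) (Nat.mul (nat_lit 16) (Nat.land i (nat_lit 2047)))) (nat_lit 65535)
noncomputable abbrev MR : Nat → Nat := MR_0
/-- number of nodes -/
abbrev M : Nat := 42
/-- absent threshold -/
abbrev A : Nat := 1023
end H35.TCSuzS
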